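/-
Gorenstein–Walter theorem: the case `M = N(V)`, final form.
-/
import Cfsg.Agent.Lib.GW.NV
import Cfsg.Agent.Lib.GW.Tool

set_option autoImplicit false

namespace CA.GW

open Cfsg CA CA.FStar Subgroup

theorem DS.nv {G : Type*} [Group G] [Finite G] (D : DS G) [IsSimpleGroup G] (perf : commutator G = ⊤) (hm : D.m = 2)
    {V : Subgroup G} (hV : Four V) (tV : D.t ∈ V) (hU : D.U ≤ 𝐂(V))
    (hmax : ∀ L, 𝐂[D.t] ≤ L → L ≠ ⊤ → L ≤ 𝐂[D.t] ∨ ∃ W, Four W ∧ D.t ∈ W ∧ D.U ≤ 𝐂(W) ∧ L ≤ 𝐍(W)) :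
    D.U = ⊥ ∨ IsA7 G := by
  obtain ⟨a0, a, x, y, hs, ⟨-, ha, hx, hy⟩, -, h1, h2, h3, h4⟩ := DS.tool D.stable_one
  obtain rfl := h3 rfl
  rw [hm] at ha hx hy h1 h2
  refine D.nv_of hm hV tV hU hmax hs (by simpa using ha) (by simpa using hx) (by simpa using hy) (h4 perf).1 ?_ ?_
  · rw [h1]; push_cast; ring
  · rw [h2 le_rfl]; push_cast; ring

end CA.GW
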